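import Cfsg.Agent.Omega.NO3S.Fld.LevRed
import Cfsg.Agent.Omega.FFBr.Final

/-!
# LightL, `n = 5`, (1') of helper411 #25060 / LEMMA (1'U) of helper433 #26100, for one offender

`R` a minimal parabolic over `T`, `M` elementary abelian, `R`-invariant, centralised by `O₂(R)`, `C_M(T) ≤ C(R)`. If some
offender `A ≤ T` on `M` is not in `O₂(R)`, then `O²(R)` centralises `M`.
-/

set_option autoImplicit false

namespace Cfsg.Agent.Omega.NO3S.SN2.Small

open Subgroup Cfsg Cfsg.Agent.ZN.ChoiceBase Cfsg.Agent.ZN.ChoiceSit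
open Cfsg.Agent.ZN (zc zl o2)
open Cfsg.Agent.MinSimple.MinParabolic (IsMinPar)
open Cfsg.Agent.MinSimple.VModule (oddGen mem_oddGen)
open Cfsg.Agent.Omega.FFThm

universe u

variable {G : Type u} [Group G] [Finite G]

/-- **(1') for one offender** -/
theorem cen_top {T R M A : Subgroup G} (hT : Syl T R) (hP : IsMinPar T R) (hM : IsElementaryAbelian 2 M)
    (hMR : M ≤ R) (hMn : R ≤ normalizer (M : Set G)) (hK : ∀ k ∈ o2 R, ∀ m ∈ M, k * m = m * k)
    (hfix : ∀ m ∈ M, (∀ t ∈ T, t * m = m * t) → ∀ g ∈ R, Odd (orderOf g) → g * m = m * g) (hA : A ≤ T)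
    (hel : ElemM M A) (hne : ¬ A ≤ o2 R)
    (hoff : (centralizer (A : Set G)).relIndex M ≤ (centralizer (M : Set G)).relIndex A) :
    M ≤ centralizer (oddGen R : Set G) := by
  refine Fld.ff_lemma_off FFBr.aStmt (Y := M) hT hP hMR hM.2 ?_ hMn ?_ ?_ hA hne hel (relIndex_le_iff.2 hoff)
  · exact fun x hx => mem_centralizer_iff.2 fun y hy =>
      congrArg (fun t : M => (t : G)) (hM.1.is_comm.comm ⟨y, hy⟩ ⟨x, hx⟩)
  · exact fun k hk => mem_centralizer_iff.2 fun m hm => (hK k hk m hm).symm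
  · rintro m ⟨hm, hmT⟩
    have h1 : oddGen R ≤ centralizer ({m} : Set G) := by
      rw [MinSimple.VModule.oddGen_def]
      refine (closure_le _).2 ?_
      rintro g ⟨hg, ho⟩
      exact mem_centralizer_singleton_iff.2 (hfix m hm (fun t ht => mem_centralizer_iff.1 hmT t ht) g hg ho)
    exact mem_centralizer_iff.2 fun g hg => mem_centralizer_singleton_iff.1 (h1 hg)

end Cfsg.Agent.Omega.NO3S.SN2.Small
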