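import Cfsg.Agent.Omega.NSix.Cen.QFF
import Cfsg.Agent.Omega.NSix.Cen.Model
import Cfsg.Agent.Omega.NO3S.OneLine.LevSym
import Cfsg.Agent.Omega.SQ1.FFKNat
import Cfsg.Agent.Omega.FFBr.Final
import Cfsg.Agent.Omega.FFBr.MainM

/-!
# The vectors fixed by `T` in an FF-module (LightL, `n = 5`, TWO PAIRS: helper68 #24848 (a), helper517 #24907 (3))

`D : QDat T R W C`, an exact offender `A ≤ T` on `W / C`. Two elements `v₁, v₂` of `W` which are fixed by `T` modulo `C`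
and are moved by an element of odd order of `R` are conjugate modulo `C_{W/C}(O²(R))` by an element of `N_R(T)`.

* `conj_model` : conjugate in the model;
* `fixN` : this.
-/

set_option autoImplicit false
set_option linter.unusedSectionVars false

namespace Cfsg.Agent.Omega.NO3S.SN2.Small

open Subgroup Cfsg Cfsg.Agent.ZN.ChoiceBase Cfsg.Agent.ZN.ChoiceSit
open Cfsg.Agent.ZN (zc zl o2)
open Cfsg.Agent.MinSimple.MinParabolic (IsMinPar)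
open Cfsg.Agent.MinSimple.VModule (le_normalizer_zl oddGen)
open Cfsg.Agent.Omega.FFThm
open Cfsg.Agent.Omega.FrameFF (cv)
open Cfsg.Agent.Omega.HOne (cv_le le_normalizer_cv conj_mem_zl conj_mem_cv)
open Cfsg.Agent.Omega.NO3S.ThmB
open Cfsg.Agent.Lib.SL2Mat
open Cfsg.Agent.Omega.NatPair (ap)
open Cfsg.Agent.Omega.NSix.Cen

universe u

variable {G : Type u} [Group G] {T R W C : Subgroup G} {G' : Type u} [Group G'] {T' H' : Subgroup G'} {φ : W →* G'}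
  {π : R →* G'}

/-- the `T`-fixed elements: natural modules -/
theorem nat_fix {F : Type} [Field F] [CharP F 2] {k : ℕ} {V D' : Subgroup G'} {N : NatKM F T' H' V D' k}
    {u : G'} (hu : u ∈ V) (hf : ∀ t ∈ T', t * u = u * t) : ∀ i, N.e u i 1 = 0 := by
  intro i
  obtain ⟨t, ht, htA⟩ := N.unip fun _ => 1
  have h1 := htA.1 u hu i
  have e : t * u * t⁻¹ = u := by rw [hf t ht]; group
  rw [e] at h1
  have h2 := congrFun h1 0
  rw [ap_up_0, one_mul] at h2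
  have h3 := left_eq_add.1 h2
  exact h3

theorem nat_ne {F : Type} [Field F] [CharP F 2] {k : ℕ} {V D' : Subgroup G'} {N : NatKM F T' H' V D' k}
    {u : G'} (hu : u ∈ V) (hf : ∀ t ∈ T', t * u = u * t) (h0 : N.e u ≠ 0) : ∀ i, N.e u i 0 ≠ 0 := by
  obtain ⟨j, hj⟩ : ∃ j, N.e u j ≠ 0 := by
    by_contra hcon
    push Not at hcon
    exact h0 (funext hcon)
  intro i hi
  have hi' : N.e u i = 0 := by
    refine vec_eq hi ?_
    exact nat_fix hu hf i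
  obtain ⟨t, ht, htr⟩ := N.trans i j
  have h1 := (htr u hu).2 hi'
  have e : t * u * t⁻¹ = u := by rw [hf t ht]; group
  rw [e] at h1
  exact hj h1

theorem ap_dg {F : Type} [Field F] (a : F) (ha : a ≠ 0) {x : Fin 2 → F} (hx : x 1 = 0) :
    ap (dg a ha) x = ![a * x 0, 0] := by
  refine vec_eq ?_ ?_
  · rw [NatPair.ap_zero', dg_00, dg_01, zero_mul, add_zero]
    rfl
  · rw [NatPair.ap_one', dg_10, dg_11, zero_mul, hx, mul_zero, add_zero]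
    rfl

/-- the `T`-fixed elements: even-subset modules -/
theorem sym_fix [Finite G'] {k m : ℕ} (hT : Syl T' H') (hP : IsMinPar T' H')
    (hc : H' ⊓ centralizer (o2 H' : Set G') ≤ o2 H') (hk : 0 < k) (hm : 1 ≤ m)
    (N : SymKM T' H' (zl T' H') (cv T' H') k m) {z : G'} (hzV : z ∈ zl T' H') (hf : ∀ t ∈ T', t * z = z * t) :
    ∃ a : ZMod 2, ∀ i x, N.e z i x = if x = 0 then 0 else a := by
  have c := SQ1.FFOne.minH_of hT hP hc
  have h := OneLine.sy_of c N.toSymK hk hm (cv_le T' H') fun _ hh _ hv => conj_mem_cv hh hv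
  have hfix : ∀ s ∈ T', s * z * s⁻¹ = z := fun s hs => by
    rw [hf s hs]; group
  have hcon : ∀ i x y, x ≠ 0 → y ≠ 0 → N.e z i x = N.e z i y := by
    intro i x y hx hy
    obtain ⟨t, ht, ρ, hg, hρ⟩ := OneLine.cyc_T' c N.toSymK h hm i hx hy
    have h2 := hg.act z hzV i x
    rw [hfix t ht, Equiv.Perm.one_apply, Pi.mulSingle_eq_same, hρ] at h2
    exact h2.symm
  have hlast : (Fin.last (2 ^ m) : Fin (2 ^ m + 1)) ≠ 0 := by
    intro h0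
    have h2 := congrArg Fin.val h0
    rw [Fin.val_last, Fin.val_zero] at h2
    exact (pow_ne_zero m two_ne_zero) h2
  have hzero : ∀ i, N.e z i 0 = 0 := by
    intro i
    have h2 := N.even z hzV i
    rw [Fin.sum_univ_succ] at h2
    have h3 : ∀ x : Fin (2 ^ m), N.e z i x.succ = N.e z i (Fin.last (2 ^ m)) := fun x =>
      hcon i _ _ (Fin.succ_ne_zero x) hlast
    rw [Finset.sum_congr rfl fun x _ => h3 x, Finset.sum_const, Finset.card_univ, Fintype.card_fin] at h2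
    have h4 : (2 ^ m) • N.e z i (Fin.last (2 ^ m)) = 0 := by
      generalize N.e z i (Fin.last (2 ^ m)) = c
      obtain ⟨l, hl⟩ : ∃ l, m = l + 1 := ⟨m - 1, by omega⟩
      rw [hl, pow_succ, mul_smul, two_nsmul, CharTwo.add_self_eq_zero, smul_zero]
    rw [h4, add_zero] at h2
    exact h2
  refine ⟨N.e z ⟨0, hk⟩ (Fin.last (2 ^ m)), fun i x => ?_⟩
  by_cases hx : x = 0
  · rw [if_pos hx, hx]; exact hzero i
  · rw [if_neg hx]
    obtain ⟨t, ht, σ, τ, hta, hσ⟩ := N.trans ⟨0, hk⟩ i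
    have h2 := hta z hzV ⟨0, hk⟩ (Fin.last (2 ^ m))
    rw [hfix t ht, hσ] at h2
    rw [← h2]
    refine hcon i _ _ hx fun h0 => hlast ?_
    have h3 := N.fix0 t ht σ τ hta ⟨0, hk⟩
    exact (τ ⟨0, hk⟩).injective (h0.trans h3.symm)

section main

variable [Finite G] [Finite G']

theorem model_fixed (M : Model T R W C T' H' φ π) (D : QDat T R W C) {v : W} (hv : ∀ t ∈ T, cq t (v : G) ∈ C) :
    ∀ t ∈ T', t * φ v = φ v * t := by
  intro t ht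
  obtain ⟨g, hg, w, hw, rfl⟩ := M.Tpi t ht
  have h1 : π g * φ v = φ v * π g := (M.cq_iff D g v).1 (hv g hg)
  obtain ⟨w', rfl⟩ := M.exists_eq hw
  have h2 : φ w' * φ v = φ v * φ w' := by
    rw [← map_mul, ← map_mul]
    congr 1
    exact Subtype.ext (D.ab w' w'.2 v v.2)
  calc φ w' * π g * φ v = φ w' * (φ v * π g) := by rw [mul_assoc, h1]
    _ = φ v * (φ w' * π g) := by rw [← mul_assoc, h2, mul_assoc]

/-- **the `T`-fixed vectors are conjugate modulo `C_V(O²)`** -/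
theorem conj_model (M : Model T R W C T' H' φ π) (D : QDat T R W C) {A : Subgroup G} (hA : A ≤ T) (hex : Ex W C A)
    (hoff : OffM W A) {v₁ v₂ : W} (h1 : ∀ t ∈ T, cq t (v₁ : G) ∈ C) (h2 : ∀ t ∈ T, cq t (v₂ : G) ∈ C)
    (n1 : φ v₁ ∉ cv T' H') (n2 : φ v₂ ∉ cv T' H') :
    ∃ g : R, π g * φ v₁ * (π g)⁻¹ * (φ v₂)⁻¹ ∈ cv T' H' := by
  have hFF : StmtM.{u} := FFBr.stmtM_of FFBr.aStmt
  have f1 := model_fixed M D h1
  have f2 := model_fixed M D h2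
  have m1 := M.mem v₁
  have m2 := M.mem v₂
  have hA' : OffM (zl T' H') (im π A) := M.offM D (hA.trans D.TR) hex hoff
  obtain ⟨-, ⟨F, iF, iFin, iC, k, hk, ⟨N⟩⟩ | ⟨k, m, hk, hm, ⟨N⟩⟩⟩ :=
    hFF G' T' H' M.syl M.par M.char2 ⟨im π A, (M.im_le hA).trans M.syl.1, hA'⟩
  · have hN := nb_of M.syl M.char2 N
    have e1 : N.e (φ v₁) ≠ 0 := fun h0 => n1 ((N.ker _ m1).1 h0)
    have e2 : N.e (φ v₂) ≠ 0 := fun h0 => n2 ((N.ker _ m2).1 h0)
    have a1 := nat_fix (N := N) m1 f1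
    have a2 := nat_fix (N := N) m2 f2
    have b1 := nat_ne (N := N) m1 f1 e1
    have b2 := nat_ne (N := N) m2 f2 e2
    obtain ⟨g, hg⟩ := M.lift N fun i => dg (N.e (φ v₂) i 0 / N.e (φ v₁) i 0) (div_ne_zero (b2 i) (b1 i))
    refine ⟨g, (hN.mem_D (hN.memV (M.piH g) m1) m2).2 ?_⟩
    funext i
    rw [hg.1 _ m1 i, ap_dg _ _ (a1 i)]
    refine vec_eq ?_ ?_
    · change N.e (φ v₂) i 0 / N.e (φ v₁) i 0 * N.e (φ v₁) i 0 = _
      exact div_mul_cancel₀ _ (b1 i)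
    · exact (a2 i).symm
  · have hN := sb_of hm M.syl M.char2 N
    obtain ⟨a, ha⟩ := sym_fix M.syl M.par M.char2 hk (by omega) N m1 f1
    obtain ⟨b, hb⟩ := sym_fix M.syl M.par M.char2 hk (by omega) N m2 f2
    have key : ∀ {v : W} {a : ZMod 2}, φ v ∉ cv T' H' → (∀ i x, N.e (φ v) i x = if x = 0 then 0 else a) → a = 1 := by
      intro v a hn ha
      have ha0 : a ≠ 0 := fun h0 => hn ((N.ker _ (M.mem v)).1 (by
        funext i x
        rw [ha, h0, ite_self]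
        rfl))
      have key2 : ∀ a : ZMod 2, a ≠ 0 → a = 1 := by decide
      exact key2 a ha0
    refine ⟨1, (hN.mem_D (hN.memV (M.piH 1) m1) m2).2 ?_⟩
    rw [map_one, one_mul, inv_one, mul_one]
    funext i x
    rw [ha, hb, key n1 ha, key n2 hb]

omit [Finite G] in
/-- an element of odd order goes to `O²(H')` -/
theorem pi_odd (M : Model T R W C T' H' φ π) {h : R} (ho : Odd (orderOf (h : G))) : π h ∈ oddGen H' := by
  refine MinSimple.VModule.mem_oddGen (M.piH h) ?_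
  refine Odd.of_dvd_nat ho ?_
  rw [Subgroup.orderOf_coe]
  exact orderOf_map_dvd π h

end main

section fix

variable [Finite G]

/-- the elements of `S` which fix `v` modulo `E` -/
def St (R E : Subgroup G) (hE : R ≤ normalizer (E : Set G)) (v : G) : Subgroup G where
  carrier := {r | r ∈ R ∧ cq r v ∈ E}
  mul_mem' := by
    rintro a b ⟨ha, hav⟩ ⟨hb, hbv⟩
    refine ⟨mul_mem ha hb, ?_⟩
    have e : cq (a * b) v = a * cq b v * a⁻¹ * cq a v := by unfold cq; group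
    rw [e]
    exact mul_mem ((mem_normalizer_iff.1 (hE ha) _).1 hbv) hav
  one_mem' := ⟨one_mem _, by unfold cq; simp⟩
  inv_mem' := by
    rintro a ⟨ha, hav⟩
    refine ⟨inv_mem ha, ?_⟩
    have e : cq a⁻¹ v = a⁻¹ * (cq a v)⁻¹ * a⁻¹⁻¹ := by unfold cq; group
    rw [e]
    exact (mem_normalizer_iff.1 (hE (inv_mem ha)) _).1 (inv_mem hav)

omit [Finite G] in
theorem conj_closed_le_normalizer' {R M : Subgroup G} (h : ∀ g ∈ R, ∀ u ∈ M, g * u * g⁻¹ ∈ M) :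
    R ≤ normalizer (M : Set G) := by
  intro g hg
  rw [mem_normalizer_iff]
  intro u
  refine ⟨fun hu => h g hg u hu, fun hu => ?_⟩
  have h1 := h g⁻¹ (inv_mem hg) _ hu
  have e : g⁻¹ * (g * u * g⁻¹) * g⁻¹⁻¹ = u := by group
  rwa [e] at h1

/-- Sylow in the stabiliser -/
theorem exists_norm {T R C E : Subgroup G} (hT : Syl T R) (hE : R ≤ normalizer (E : Set G)) (hCE : C ≤ E)
    (cen : ∀ g ∈ R, ∀ c ∈ C, g * c = c * g) {v₁ v₂ g : G}
    (h1 : ∀ t ∈ T, cq t v₁ ∈ C) (h2 : ∀ t ∈ T, cq t v₂ ∈ C) (hg : g ∈ R) (hgv : g * v₁ * g⁻¹ * v₂⁻¹ ∈ E) :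
    ∃ r ∈ R, r ∈ normalizer (T : Set G) ∧ r * v₁ * r⁻¹ * v₂⁻¹ ∈ E := by
  have hTS : T ≤ St R E hE v₂ := fun t ht => ⟨hT.1 ht, hCE (h2 t ht)⟩
  have hgT : cj g T ≤ St R E hE v₂ := by
    rintro _ ⟨t, ht, rfl⟩
    have htR : t ∈ R := hT.1 ht
    refine ⟨mul_mem (mul_mem hg htR) (inv_mem hg), ?_⟩
    show cq (g * t * g⁻¹) v₂ ∈ E
    set e := g * v₁ * g⁻¹ * v₂⁻¹ with he
    -- `v₂ = e⁻¹ (g v₁ g⁻¹)`
    have hE1 : (g * t * g⁻¹) * e⁻¹ * (g * t * g⁻¹)⁻¹ ∈ E :=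
      (mem_normalizer_iff.1 (hE (mul_mem (mul_mem hg htR) (inv_mem hg))) _).1 (inv_mem hgv)
    have hc := h1 t ht
    have hgc : g * cq t v₁ * g⁻¹ = cq t v₁ := by rw [cen g hg _ hc]; group
    have e1 : cq (g * t * g⁻¹) v₂ = ((g * t * g⁻¹) * e⁻¹ * (g * t * g⁻¹)⁻¹) * (g * cq t v₁ * g⁻¹) *
        (g * v₁ * g⁻¹ * v₂⁻¹) := by rw [he]; unfold cq; group
    rw [e1, hgc]
    exact mul_mem (mul_mem hE1 (hCE hc)) hgv
  have s1 : Syl T (St R E hE v₂) := ⟨hTS, hT.2.1, fun Q hQ hp hTQ => hT.2.2 Q (hQ.trans fun _ h => h.1) hp hTQ⟩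
  have hgR : cj g R = R := cj_eq_of_mem_normalizer (le_normalizer hg)
  have s2 : Syl (cj g T) (St R E hE v₂) := by
    have h3 := Cfsg.Agent.ZN.CaseTwo.syl_cj g hT
    rw [hgR] at h3
    exact ⟨hgT, h3.2.1, fun Q hQ hp hTQ => h3.2.2 Q (hQ.trans fun _ h => h.1) hp hTQ⟩
  obtain ⟨c, hc, hcT⟩ := syl_conj s2 s1
  refine ⟨c * g, mul_mem hc.1 hg, ?_, ?_⟩
  · rw [mem_normalizer_iff_cj, ← cj_cj, hcT]
  · have e1 : c * g * v₁ * (c * g)⁻¹ * v₂⁻¹ = (c * (g * v₁ * g⁻¹ * v₂⁻¹) * c⁻¹) * cq c v₂ := by unfold cq; group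
    rw [e1]
    exact mul_mem ((mem_normalizer_iff.1 (hE hc.1) _).1 hgv) hc.2

/-- **two `T`-fixed elements which are moved by `O²(R)` are conjugate under `N_R(T)` modulo `C(O²(R))`** -/
theorem fixN (D : QDat T R W C) {A : Subgroup G} (hA : A ≤ T) (hex : Ex W C A) (hoff : OffM W A) {v₁ v₂ : G}
    (hv₁ : v₁ ∈ W) (hv₂ : v₂ ∈ W) (h1 : ∀ t ∈ T, cq t v₁ ∈ C) (h2 : ∀ t ∈ T, cq t v₂ ∈ C)
    (n1 : ∃ h ∈ R, Odd (orderOf h) ∧ h * v₁ ≠ v₁ * h) (n2 : ∃ h ∈ R, Odd (orderOf h) ∧ h * v₂ ≠ v₂ * h) :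
    ∃ r ∈ R, r ∈ normalizer (T : Set G) ∧ ∀ h ∈ R, Odd (orderOf h) →
      h * (r * v₁ * r⁻¹ * v₂⁻¹) = (r * v₁ * r⁻¹ * v₂⁻¹) * h := by
  obtain ⟨G', _, _, T', H', φ, π, M⟩ := exists_model D
  have hn : ∀ {v : G} (hv : v ∈ W), (∃ h ∈ R, Odd (orderOf h) ∧ h * v ≠ v * h) → φ ⟨v, hv⟩ ∉ cv T' H' := by
    rintro v hv ⟨h, hh, ho, hne⟩ hc
    refine hne (D.odd_comm hh ho ?_)
    have h3 := mem_centralizer_iff.1 hc.2 _ (pi_odd M (h := ⟨h, hh⟩) ho)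
    exact (M.cq_iff D ⟨h, hh⟩ ⟨v, hv⟩).2 h3
  obtain ⟨g, hg⟩ := conj_model M D hA hex hoff (v₁ := ⟨v₁, hv₁⟩) (v₂ := ⟨v₂, hv₂⟩) h1 h2 (hn hv₁ n1) (hn hv₂ n2)
  set E : Subgroup G := pre φ (cv T' H') with hE
  have hCE : C ≤ E := fun c hc => mem_pre.2 ⟨D.CW hc, by
    rw [(M.ker ⟨c, D.CW hc⟩).2 hc]; exact one_mem _⟩
  have hEn : ∀ g ∈ R, ∀ x ∈ E, g * x * g⁻¹ ∈ E := by
    intro g hg x hx
    obtain ⟨hxW, hx'⟩ := mem_pre.1 hx
    refine mem_pre.2 ⟨D.conj_mem hg hxW, ?_⟩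
    rw [← M.actc ⟨g, hg⟩ ⟨x, hxW⟩ (D.conj_mem hg hxW)]
    exact conj_mem_cv (M.piH _) hx'
  have hEN : R ≤ normalizer (E : Set G) := conj_closed_le_normalizer' hEn
  have hgE : (g : G) * v₁ * (g : G)⁻¹ * v₂⁻¹ ∈ E := by
    have hw := D.conj_mem g.2 hv₁
    refine mem_pre.2 ⟨mul_mem hw (inv_mem hv₂), ?_⟩
    rw [M.actc g ⟨v₁, hv₁⟩ hw, ← map_inv, ← map_mul] at hg
    exact hg
  obtain ⟨r, hr, hrN, hrE⟩ := exists_norm D.syl hEN hCE D.cen h1 h2 g.2 hgE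
  refine ⟨r, hr, hrN, fun h hh ho => D.odd_comm hh ho ?_⟩
  obtain ⟨hxW, hx'⟩ := mem_pre.1 hrE
  have h3 := mem_centralizer_iff.1 hx'.2 _ (pi_odd M (h := ⟨h, hh⟩) ho)
  exact (M.cq_iff D ⟨h, hh⟩ ⟨_, hxW⟩).2 h3

end fix

end Cfsg.Agent.Omega.NO3S.SN2.Small
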