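import Cfsg.Agent.Omega.NO3S.SN2.Small.Fix
import Cfsg.Agent.Omega.NO3S.SN2.BATwo
import Cfsg.Agent.Omega.OM.Swap.Fam.NoOvM
import Cfsg.Agent.Omega.NO3S.SN.TwoP.Frame
import Cfsg.Agent.Omega.NO3S.Level.Basic
import Cfsg.Agent.Omega.SQ1.Bau

/-!
# LightL, `n = 5`, TWO PAIRS at the small stage: the reduction (helper68 #24848, helper517 #24907)

`V` the even subsets of 5 letters, `D = ⟨12, 34⟩`, `T ∈ Syl₂(R)`, `R ≤ C_G(D)` minimal over `T` with `R ≰ M₀`,
`C_R(v) ≤ M₀` for `v ∈ V ∖ D`, `N_R(T)` and `T` trivial on `V / D`, `K = O₂(R)`, `U = ⟨V^R⟩` elementary abelian.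

* `Fr` : the frame;
* `Fr.no_ex` : **(a)** an offender `A ≤ T` on `U` which is not in `K`: `A ∩ K` does not centralise `U`;
* `Fr.cen_of_best` : **(b)** the best offenders on `W ≥ U` in `K` centralise `V`, one in `T` is not in `K`: `O²(R)`
  centralises `C_W(K)`;
* `Fr.cen_of_AA` : **(b')** the same with `A(T)`, `Ω₁(Z(K))`;
* `Fr.mem_of_cen` : a subgroup `X` centralised by `O²(R)` has `X ∩ V ≤ D`.
-/

set_option autoImplicit false
set_option linter.unusedSectionVars false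

namespace Cfsg.Agent.Omega.NO3S.SN2.Small

open Subgroup Cfsg Cfsg.Agent.ZN.ChoiceBase Cfsg.Agent.ZN.ChoiceSit
open Cfsg.Agent.ZN (zc zl o2)
open Cfsg.Agent.MinSimple.MinParabolic (IsMinPar)
open Cfsg.Agent.MinSimple.VModule (le_normalizer_zl oddGen mem_oddGen oddGen_def)
open Cfsg.Agent.Omega.FFThm
open Cfsg.Agent.Omega.OmThm (NoOvM noOvM)
open Cfsg.Agent.PLocal.ElemAbSup
open scoped commutatorElement
open Cfsg.Agent.Omega.NSix.Cen
open Cfsg.Agent.Omega.NO3S.SN2.BA (UU UU_conj conj_closed_le_normalizer bo_sub bo_of_le bo_cj)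

universe u

variable {G : Type u} [Group G]

/-- the frame -/
structure Fr (T R M₀ V D : Subgroup G) : Prop where
  syl : Syl T R
  par : IsMinPar T R
  TM : T ≤ M₀
  nRM : ¬ R ≤ M₀
  DV : D ≤ V
  cen : ∀ g ∈ R, ∀ d ∈ D, g * d = d * g
  VT : ∀ v ∈ V, ∀ t ∈ T, cq t v ∈ D
  st : ∀ v ∈ V, v ∉ D → ∀ g ∈ R, g * v = v * g → g ∈ M₀
  nT : ∀ g ∈ R, g ∈ normalizer (T : Set G) → ∀ v ∈ V, cq g v ∈ D
  four : ∃ v ∈ V, ∃ w ∈ V, v ∉ D ∧ w ∉ D ∧ v * w⁻¹ ∉ D
  /-- `⟨V^R⟩` is elementary abelian -/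
  Uel : IsElementaryAbelian 2 (UU R V)

namespace Fr

variable {T R M₀ V D : Subgroup G} (f : Fr T R M₀ V D)
include f

theorem TR : T ≤ R := f.syl.1

theorem VU : V ≤ UU R V := fun v hv => subset_closure ⟨1, one_mem _, v, hv, by group⟩

theorem comm {v w : G} (hv : v ∈ UU R V) (hw : w ∈ UU R V) : v * w = w * v :=
  congrArg (fun t : UU R V => (t : G)) (f.Uel.1.is_comm.comm ⟨v, hv⟩ ⟨w, hw⟩)

theorem sq {v : G} (hv : v ∈ UU R V) : v * v = 1 := by
  have := f.Uel.2 v hv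
  rwa [pow_two] at this

theorem cqv {g v : G} (hg : g ∈ R) (hv : v ∈ UU R V) : g * v * g⁻¹ ∈ UU R V := UU_conj hg hv

theorem UR : R ≤ normalizer (UU R V : Set G) := conj_closed_le_normalizer fun _ hg _ hu => UU_conj hg hu

variable [Finite G]

theorem K_le : o2 R ≤ T := Cfsg.Agent.ZN.o2_le_of_sylow f.TR f.syl.2.1 (syl_not_dvd f.syl)

theorem K_conj {g k : G} (hg : g ∈ R) (hk : k ∈ o2 R) : g * k * g⁻¹ ∈ o2 R :=
  (mem_normalizer_iff.1 (Cfsg.Agent.ZN.le_normalizer_o2 R hg) k).1 hk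

/-- an element of `V ∖ D` is moved by an element of odd order -/
theorem odd {v : G} (hv : v ∈ V) (hvD : v ∉ D) : ∃ h ∈ R, Odd (orderOf h) ∧ h * v ≠ v * h := by
  by_contra hcon
  push Not at hcon
  apply f.nRM
  rw [← SN.TwoP.oddGen_sup f.syl]
  refine sup_le ?_ f.TM
  rw [oddGen_def]
  refine (closure_le _).2 ?_
  rintro h ⟨hh, ho⟩
  exact f.st v hv hvD h hh (hcon h hh ho)

theorem mem_of_cen {v : G} (hv : v ∈ V) (h : ∀ h ∈ R, Odd (orderOf h) → h * v = v * h) : v ∈ D := by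
  by_contra hvD
  obtain ⟨x, hx, ho, hne⟩ := f.odd hv hvD
  exact hne (h x hx ho)

theorem qdat : QDat T R (UU R V) D where
  syl := f.syl
  par := f.par
  nW := f.UR
  CW := f.DV.trans f.VU
  cen := f.cen
  ab := fun _ hv _ hw => f.comm hv hw
  sq := fun _ hv => f.sq hv
  mv := by
    obtain ⟨v, hv, -, -, hvD, -⟩ := f.four
    refine ⟨v, f.VU hv, f.VT v hv, ?_⟩
    obtain ⟨h, hh, ho, hne⟩ := f.odd hv hvD
    refine ⟨h, hh, fun hc => hne ?_⟩
    -- coprime action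
    have h1 : ∀ n : ℕ, h ^ n * v * (h ^ n)⁻¹ = (cq h v) ^ n * v := by
      intro n
      induction n with
      | zero => simp
      | succ n ih =>
        have h2 : Commute (h ^ n) (cq h v) := (show Commute h (cq h v) from f.cen h hh _ hc).pow_left n
        calc h ^ (n + 1) * v * (h ^ (n + 1))⁻¹ = h ^ n * (cq h v * v) * (h ^ n)⁻¹ := by rw [cq, pow_succ]; group
          _ = (h ^ n * cq h v) * v * (h ^ n)⁻¹ := by group
          _ = (cq h v * h ^ n) * v * (h ^ n)⁻¹ := by rw [h2.eq]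
          _ = cq h v * (h ^ n * v * (h ^ n)⁻¹) := by group
          _ = (cq h v) ^ (n + 1) * v := by rw [ih, pow_succ']; group
    have h2 := h1 (orderOf h)
    rw [pow_orderOf_eq_one, one_mul, inv_one, mul_one] at h2
    have h3 : (cq h v) ^ orderOf h = 1 := by
      have := congrArg (· * v⁻¹) h2
      simpa using this.symm
    obtain ⟨m, hm⟩ := ho
    have h4 : cq h v * cq h v = 1 := f.sq (f.VU (f.DV hc))
    rw [hm, pow_succ, pow_mul, pow_two, h4, one_pow, one_mul] at h3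
    exact cq_one_iff.1 h3
  gen := fun K hK h => (closure_le _).2 (by
    rintro _ ⟨g, hg, v, hv, rfl⟩
    exact h v (f.VU hv) (f.VT v hv) g hg)

/-- **(a)** -/
theorem no_ex {A : Subgroup G} (hA : A ≤ T) (hel : ElemM (UU R V) A)
    (hoff : (centralizer (A : Set G)).relIndex (UU R V) ≤ (centralizer (UU R V : Set G)).relIndex A)
    (hne : ¬ A ≤ o2 R) (hK : ∀ a ∈ A, a ∈ o2 R → a ∈ centralizer (UU R V : Set G)) : False := by
  set U := UU R V with hU
  have hFF : StmtM.{u} := FFBr.stmtM_of FFBr.aStmt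
  have Q := f.qdat
  have hAR : A ≤ R := hA.trans f.TR
  -- exactness
  have hKA : ∀ a ∈ A, TrQ U D a → a ∈ centralizer (U : Set G) := fun a ha hat =>
    hK a ha (Q.inf_kQ ⟨hA ha, hAR ha, hat⟩)
  let CW : Subgroup G := Q.cQ A hAR
  have hCW : ∀ y, y ∈ CW ↔ y ∈ U ∧ ∀ a ∈ A, cq a y ∈ D := fun y => Iff.rfl
  have hKA' : ∀ a, a ∈ A ⊓ centralizer (U : Set G) ↔ a ∈ A ∧ TrQ U D a := fun a =>
    ⟨fun h => ⟨h.1, trQ_of_cen h.2⟩, fun h => ⟨h.1, hKA a h.1 h.2⟩⟩
  have hno : NoOverQ R U D := by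
    obtain ⟨G', _, _, T', H', φ, π, M⟩ := exists_model Q
    exact NSix.Cen.noOverQ hFF Q M
  have h1 := hno A hAR (fun a ha => by
      have := hel.sq a ha
      rw [pow_two] at this
      exact trQ_of_cen this) (fun a ha b hb => trQ_of_cen (hel.comm a ha b hb)) _ _ hKA' hCW
  rw [inf_relIndex_left] at h1
  have hle : U ⊓ centralizer (A : Set G) ≤ CW := fun y hy => (hCW y).2 ⟨hy.1, fun a ha => by
    rw [cq_one_iff.2 (mem_centralizer_iff.1 hy.2 a ha)]
    exact one_mem _⟩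
  have h2 : (centralizer (A : Set G)).relIndex U ≤ CW.relIndex U := hoff.trans h1
  have h3 : CW ≤ U ⊓ centralizer (A : Set G) := by
    have h4 : (U ⊓ centralizer (A : Set G)).relIndex U ≤ CW.relIndex U := by
      rwa [inf_relIndex_left]
    have hCU : CW ≤ U := fun y hy => hy.1
    have h5 := relIndex_mul_relIndex (U ⊓ centralizer (A : Set G)) CW U hle hCU
    have h6 : 0 < CW.relIndex U := Nat.pos_of_ne_zero index_ne_zero_of_finite
    have h7 : (U ⊓ centralizer (A : Set G)).relIndex CW ≤ 1 := by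
      refine Nat.le_of_mul_le_mul_right ?_ h6
      rw [h5, one_mul]
      exact h4
    have h8 : (U ⊓ centralizer (A : Set G)).relIndex CW = 1 :=
      le_antisymm h7 (Nat.pos_of_ne_zero index_ne_zero_of_finite)
    exact relIndex_eq_one.1 h8
  have hex : Ex U D A := ⟨hKA, fun w hw hc => fun a ha =>
    mem_centralizer_iff.1 (h3 ((hCW w).2 ⟨hw, hc⟩)).2 a ha⟩
  have hoffM : OffM U A := ⟨hel, fun h => hne fun a ha =>
    Q.inf_kQ ⟨hA ha, hAR ha, trQ_of_cen (h ha)⟩, relIndex_le_iff.2 hoff⟩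
  obtain ⟨v, hv, w, hw, hvD, hwD, hvw⟩ := f.four
  obtain ⟨r, hr, hrN, hrc⟩ := fixN Q hA hex hoffM (f.VU hv) (f.VU hw) (f.VT v hv) (f.VT w hw) (f.odd hv hvD)
    (f.odd hw hwD)
  have h4 := f.nT r hr hrN v hv
  -- `r v r⁻¹ w⁻¹ = [r, v] v w⁻¹`
  have e : r * v * r⁻¹ * w⁻¹ = cq r v * (v * w⁻¹) := by unfold cq; group
  rw [e] at hrc
  have h5 : cq r v * (v * w⁻¹) ∈ V := mul_mem (f.DV h4) (mul_mem hv (inv_mem hw))
  have h6 := f.mem_of_cen h5 hrc
  exact hvw ((mul_mem_cancel_left h4).1 h6)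

/-- a subgroup of `K` whose conjugates centralise `V` -/
theorem cen_U {B : Subgroup G} (h : ∀ g ∈ R, cj g B ≤ centralizer (V : Set G)) : B ≤ centralizer (UU R V : Set G) := by
  intro b hb
  have h1 : UU R V ≤ centralizer ({b} : Set G) := by
    refine (closure_le _).2 ?_
    rintro _ ⟨g, hg, v, hv, rfl⟩
    refine mem_centralizer_singleton_iff.2 ?_
    have h2 := mem_centralizer_iff.1 (h g⁻¹ (inv_mem hg) ⟨b, hb, rfl⟩) v hv
    have h3 : v * (g⁻¹ * b * g⁻¹⁻¹) = (g⁻¹ * b * g⁻¹⁻¹) * v := h2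
    rw [inv_inv] at h3
    calc g * v * g⁻¹ * b = g * (v * (g⁻¹ * b * g)) * g⁻¹ := by group
      _ = g * ((g⁻¹ * b * g) * v) * g⁻¹ := by rw [h3]
      _ = b * (g * v * g⁻¹) := by group
  exact mem_centralizer_iff.2 fun u hu => mem_centralizer_singleton_iff.1 (h1 hu)

theorem A_norm {A : Subgroup G} (hA : A ≤ T) : A ≤ R := hA.trans f.TR

omit f [Finite G] in
theorem commW {W : Subgroup G} (hW : IsElementaryAbelian 2 W) : ∀ x ∈ W, ∀ y ∈ W, x * y = y * x := fun x hx y hy =>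
  congrArg (fun t : W => (t : G)) (hW.1.is_comm.comm ⟨x, hx⟩ ⟨y, hy⟩)

omit f [Finite G] in
theorem sqW {W : Subgroup G} (hW : IsElementaryAbelian 2 W) : ∀ x ∈ W, x * x = 1 := fun x hx => by
  have := hW.2 x hx
  rwa [pow_two] at this

/-- no over-offender on `M`, `O²(R)` nontrivial on `M` -/
theorem noOv {M A : Subgroup G} (hM : IsElementaryAbelian 2 M) (hMn : R ≤ normalizer (M : Set G)) (hA : A ≤ T)
    (hel : ElemM M A) (hmv : ∃ m ∈ M, ∃ h ∈ R, Odd (orderOf h) ∧ h * m ≠ m * h) :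
    (o2 R).relIndex A ≤ (centralizer (A : Set G)).relIndex M := by
  obtain ⟨m, hm, h, hh, ho, hne⟩ := hmv
  have h1 := noOvM f.syl f.par (commW hM) (sqW hM) ⊥ M (M ⊓ centralizer (A : Set G)) A bot_le inf_le_left le_rfl
    (fun g _ => by
      rw [mem_normalizer_iff_cj]
      exact Subgroup.map_bot _) hMn ⟨m, hm, h, mem_oddGen hh ho, fun h0 => hne (by
        rw [mem_bot] at h0
        have h2 : m * h * m⁻¹ = h := mul_inv_eq_one.1 h0
        have h3 : m * h = h * m := mul_inv_eq_iff_eq_mul.1 h2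
        exact h3.symm)⟩ (hA.trans f.TR) (f.syl.2.1.to_le hA) hel (fun b hb e he => by
      rw [mem_bot]
      have h2 : e * b = b * e := mem_centralizer_iff.1 hb.2 e he
      rw [← h2]; group)
  rwa [inf_relIndex_left] at h1

/-- **(b)** -/
theorem cen_of_best {W : Subgroup G} (hUW : UU R V ≤ W) (hWn : R ≤ normalizer (W : Set G))
    (hW : IsElementaryAbelian 2 W)
    (hV : ∀ A : Subgroup G, A ≤ o2 R → IsBestOffenderOn 2 W A → A ≤ centralizer (V : Set G))
    {A : Subgroup G} (hA : A ≤ T) (hb : IsBestOffenderOn 2 W A) (hne : ¬ A ≤ o2 R) :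
    ∀ h ∈ R, Odd (orderOf h) → ∀ m ∈ W, (∀ k ∈ o2 R, k * m = m * k) → h * m = m * h := by
  intro h hh ho m hm hmK
  by_contra hcon
  set M : Subgroup G := W ⊓ centralizer (o2 R : Set G) with hMdef
  have hMW : M ≤ W := inf_le_left
  have hmM : m ∈ M := ⟨hm, mem_centralizer_iff.2 hmK⟩
  have hMel : IsElementaryAbelian 2 M :=
    ⟨⟨⟨fun a b => Subtype.ext (commW hW a (hMW a.2) b (hMW b.2))⟩⟩, fun a ha => hW.2 a (hMW ha)⟩
  have hMn : R ≤ normalizer (M : Set G) := conj_closed_le_normalizer fun g hg u hu => by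
    refine ⟨(mem_normalizer_iff.1 (hWn hg) u).1 hu.1, mem_centralizer_iff.2 fun k hk => ?_⟩
    have h1 := f.K_conj (inv_mem hg) hk
    rw [inv_inv] at h1
    have h2 := mem_centralizer_iff.1 hu.2 _ h1
    calc k * (g * u * g⁻¹) = g * ((g⁻¹ * k * g) * u) * g⁻¹ := by group
      _ = g * (u * (g⁻¹ * k * g)) * g⁻¹ := by rw [h2]
      _ = g * u * g⁻¹ * k := by group
  have hel : ElemM W A := ⟨hb.2.2, fun a ha b hb' => hb.2.1 (commutator_mem_commutator ha hb')⟩
  have hmono : ∀ {X : Subgroup G}, X ≤ W → ElemM X A := fun {X} hX =>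
    ⟨fun a ha => centralizer_le (SetLike.coe_subset_coe.2 hX) (hel.sq a ha),
      fun a ha b hb' => centralizer_le (SetLike.coe_subset_coe.2 hX) (hel.comm a ha b hb')⟩
  have hr := f.noOv hMel hMn hA (hmono hMW) ⟨m, hmM, h, hh, ho, hcon⟩
  -- `A ∩ K` is best
  set B : Subgroup G := A ⊓ o2 R with hB
  have hBbest : IsBestOffenderOn 2 W B := by
    refine bo_of_le hb inf_le_left ?_
    have h2 : M ≤ W ⊓ centralizer (B : Set G) := le_inf hMW (le_centralizer_iff.1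
      ((inf_le_right : B ≤ o2 R).trans (le_centralizer_iff.1 inf_le_right)))
    have h3 : W ⊓ centralizer (A : Set G) ≤ W ⊓ centralizer (B : Set G) :=
      inf_le_inf_left _ (centralizer_le (SetLike.coe_subset_coe.2 inf_le_left))
    have h4 := PLocal.Timmesfeld.card_mul_card_le h2 h3
    have h5 : M ⊓ (W ⊓ centralizer (A : Set G)) = M ⊓ centralizer (A : Set G) := by
      rw [← inf_assoc, inf_eq_left.2 hMW]
    rw [h5] at h4
    have e1 : Nat.card B * (o2 R).relIndex A = Nat.card A := by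
      have h := relIndex_mul_relIndex (⊥ : Subgroup G) B A bot_le inf_le_left
      rwa [relIndex_bot_left, relIndex_bot_left, inf_relIndex_left] at h
    have e2 : Nat.card ↥(M ⊓ centralizer (A : Set G)) * (centralizer (A : Set G)).relIndex M = Nat.card M := by
      have h := relIndex_mul_relIndex (⊥ : Subgroup G) (M ⊓ centralizer (A : Set G)) M bot_le inf_le_left
      rwa [relIndex_bot_left, relIndex_bot_left, inf_relIndex_left] at h
    have p1 : 0 < Nat.card ↥(M ⊓ centralizer (A : Set G)) := Nat.card_pos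
    refine Nat.le_of_mul_le_mul_left ?_ p1
    calc Nat.card ↥(M ⊓ centralizer (A : Set G)) * (Nat.card A * Nat.card ↥(W ⊓ centralizer (A : Set G)))
        = Nat.card ↥(M ⊓ centralizer (A : Set G)) * (Nat.card B * (o2 R).relIndex A) *
            Nat.card ↥(W ⊓ centralizer (A : Set G)) := by rw [e1]; ring
      _ ≤ Nat.card ↥(M ⊓ centralizer (A : Set G)) * (Nat.card B * (centralizer (A : Set G)).relIndex M) *
            Nat.card ↥(W ⊓ centralizer (A : Set G)) :=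
          Nat.mul_le_mul_right _ (Nat.mul_le_mul_left _ (Nat.mul_le_mul_left _ hr))
      _ = Nat.card B * (Nat.card M * Nat.card ↥(W ⊓ centralizer (A : Set G))) := by rw [← e2]; ring
      _ ≤ Nat.card B * (Nat.card ↥(M ⊓ centralizer (A : Set G)) * Nat.card ↥(W ⊓ centralizer (B : Set G))) :=
          Nat.mul_le_mul_left _ h4
      _ = _ := by ring
  have hBU : B ≤ centralizer (UU R V : Set G) := f.cen_U fun g hg => by
    refine hV _ ?_ (bo_cj hBbest (hWn hg))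
    rintro _ ⟨b, hb', rfl⟩
    exact f.K_conj hg hb'.2
  refine f.no_ex hA (hmono hUW) (relIndex_le_iff.1 ?_) hne fun a ha haK => hBU ⟨ha, haK⟩
  exact bo_sub hb hUW

/-- **(b')** -/
theorem cen_of_AA (hVK : V ≤ o2 R)
    (hV : ∀ A : Subgroup G, A ∈ AA T → A ≤ o2 R → A ≤ centralizer (V : Set G))
    {A : Subgroup G} (hA : A ∈ AA T) (hne : ¬ A ≤ o2 R) :
    ∀ h ∈ R, Odd (orderOf h) → ∀ m ∈ zc (o2 R), h * m = m * h := by
  intro h hh ho m hm
  by_contra hcon
  have hAT := hA.2.1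
  set M : Subgroup G := zc (o2 R) with hMdef
  have hMK : M ≤ o2 R := MinSimple.VModule.zc_le _
  have hMc : ∀ m ∈ M, ∀ k ∈ o2 R, k * m = m * k := fun m hm => (mem_zc.1 hm).2.2
  have hMel : IsElementaryAbelian 2 M :=
    ⟨⟨⟨fun a b => Subtype.ext (hMc b b.2 a (hMK a.2))⟩⟩, fun a ha => (mem_zc.1 ha).2.1⟩
  have hMn : R ≤ normalizer (M : Set G) :=
    (Cfsg.Agent.ZN.le_normalizer_o2 R).trans (NO3S.Level.normalizer_le_zc _)
  have hr := f.noOv hMel hMn hAT (ElemM.of_elem hA.1) ⟨m, hm, h, hh, ho, hcon⟩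
  have hAK : M ≤ centralizer ((A ⊓ o2 R : Subgroup G) : Set G) := fun m hm =>
    mem_centralizer_iff.2 fun a ha => hMc m hm a ha.2
  have hAKel : IsElementaryAbelian 2 (A ⊓ o2 R) :=
    ⟨⟨⟨fun a b => Subtype.ext (commW hA.1 a a.2.1 b b.2.1)⟩⟩, fun a ha => hA.1.2 a ha.1⟩
  set B : Subgroup G := (A ⊓ o2 R) ⊔ M with hB
  have hBK : B ≤ o2 R := sup_le inf_le_right hMK
  have hBel : IsElementaryAbelian 2 B := isElementaryAbelian_sup hAKel hMel hAK
  have hBA : Nat.card A ≤ Nat.card B := by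
    have e0 := card_sup_mul_card_inf hAK
    have h1 : A ⊓ o2 R ⊓ M = M ⊓ centralizer (A : Set G) := by
      apply le_antisymm
      · rintro x ⟨⟨hxA, -⟩, hxM⟩
        exact ⟨hxM, mem_centralizer_iff.2 fun a ha => commW hA.1 a ha x hxA⟩
      · rintro x ⟨hxM, hxA⟩
        exact ⟨⟨SQ1.Bau.mem_AA_of_comm hA (f.K_le (hMK hxM)) (mem_zc.1 hxM).2.1 fun a ha =>
          mem_centralizer_iff.1 hxA a ha, hMK hxM⟩, hxM⟩
    rw [h1] at e0
    have e1 : Nat.card ↥(A ⊓ o2 R) * (o2 R).relIndex A = Nat.card A := by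
      have h := relIndex_mul_relIndex (⊥ : Subgroup G) (A ⊓ o2 R) A bot_le inf_le_left
      rwa [relIndex_bot_left, relIndex_bot_left, inf_relIndex_left] at h
    have e2 : Nat.card ↥(M ⊓ centralizer (A : Set G)) * (centralizer (A : Set G)).relIndex M = Nat.card M := by
      have h := relIndex_mul_relIndex (⊥ : Subgroup G) (M ⊓ centralizer (A : Set G)) M bot_le inf_le_left
      rwa [relIndex_bot_left, relIndex_bot_left, inf_relIndex_left] at h
    have p1 : 0 < Nat.card ↥(M ⊓ centralizer (A : Set G)) := Nat.card_pos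
    refine Nat.le_of_mul_le_mul_left ?_ p1
    calc Nat.card ↥(M ⊓ centralizer (A : Set G)) * Nat.card A
        = Nat.card ↥(M ⊓ centralizer (A : Set G)) * (Nat.card ↥(A ⊓ o2 R) * (o2 R).relIndex A) := by rw [e1]
      _ ≤ Nat.card ↥(M ⊓ centralizer (A : Set G)) *
            (Nat.card ↥(A ⊓ o2 R) * (centralizer (A : Set G)).relIndex M) :=
          Nat.mul_le_mul_left _ (Nat.mul_le_mul_left _ hr)
      _ = Nat.card ↥(A ⊓ o2 R) * Nat.card M := by rw [← e2]; ring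
      _ = Nat.card B * Nat.card ↥(M ⊓ centralizer (A : Set G)) := e0.symm
      _ = _ := mul_comm _ _
  have hBU : B ≤ centralizer (UU R V : Set G) := f.cen_U fun g hg => by
    have hgK : cj g B ≤ o2 R := by
      rintro _ ⟨b, hb', rfl⟩
      exact f.K_conj hg (hBK hb')
    refine hV _ ⟨isElementaryAbelian_cj g hBel, hgK.trans f.K_le, fun X hX hXT => ?_⟩ hgK
    rw [card_cj]
    exact (hA.2.2 X hX hXT).trans hBA
  have hUK : UU R V ≤ o2 R := by
    refine (closure_le _).2 ?_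
    rintro _ ⟨g, hg, v, hv, rfl⟩
    exact f.K_conj hg (hVK hv)
  have hnU : ¬ A ≤ centralizer (UU R V : Set G) := fun h0 => hne fun a ha =>
    f.qdat.inf_kQ ⟨hAT ha, f.TR (hAT ha), trQ_of_cen (h0 ha)⟩
  have hoff := off_of_AA f.Uel (hUK.trans f.K_le) hA hnU
  exact f.no_ex hAT (ElemM.of_elem hA.1) (relIndex_le_iff.1 hoff.le) hne fun a ha haK =>
    hBU (mem_sup_left ⟨ha, haK⟩)

/-- **(c1)** `C_V(K) ≤ D` -/
theorem cV_le {W : Subgroup G} (hVW : V ≤ W)
    (h : ∀ h ∈ R, Odd (orderOf h) → ∀ m ∈ W, (∀ k ∈ o2 R, k * m = m * k) → h * m = m * h) {v : G} (hv : v ∈ V)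
    (hK : ∀ k ∈ o2 R, k * v = v * k) : v ∈ D :=
  f.mem_of_cen hv fun x hx ho => h x hx ho v (hVW hv) hK

end Fr

end Cfsg.Agent.Omega.NO3S.SN2.Small
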